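import Cfsg.Agent.Fusion91.PSp.Gen

set_option autoImplicit false

/-! The Sylow subgroup of `PSp` has no proper strongly closed subgroup. -/

namespace Cfsg.Agent.Fusion91.PSp

open Matrix
open Matrix.SpecialLinearGroup (transvection transvection_coe)
open Cfsg.Agent.Symplectic (Sp Vec tv negOne eI fI)
open Cfsg.Agent.AutPSL (IsUni uni mem_uni)

variable {m : ℕ} {F : Type*} [Field F]

/-- The symmetric matrix with `c` at two opposite places. -/
abbrev E2 (i j : Fin m) (c : F) : Matrix (Fin m) (Fin m) F :=
  Matrix.single i j c + Matrix.single j i c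

theorem E2_symm (i j : Fin m) (c : F) : (E2 i j c).IsSymm := by
  show (E2 i j c)ᵀ = E2 i j c
  rw [E2, transpose_add, transpose_single, transpose_single, add_comm]

theorem levi_conj_symm (s : Matrix.SpecialLinearGroup (Fin m) F) {S : Matrix (Fin m) (Fin m) F}
    (hS : S.IsSymm) : (s.1 * S * s.1ᵀ).IsSymm := by
  show (s.1 * S * s.1ᵀ)ᵀ = _
  rw [transpose_mul, transpose_mul, transpose_transpose, hS.eq, Matrix.mul_assoc]

theorem levi_conj_sieg (s : Matrix.SpecialLinearGroup (Fin m) F) {S : Matrix (Fin m) (Fin m) F}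
    (hS : S.IsSymm) :
    levi s * sieg S hS * (levi s)⁻¹ = sieg (s.1 * S * s.1ᵀ) (levi_conj_symm s hS) := by
  rw [mul_inv_eq_iff_eq_mul]
  apply Subtype.ext
  rw [Submonoid.coe_mul, Submonoid.coe_mul, levi_coe, sieg_coe, sieg_coe, fromBlocks_multiply,
    fromBlocks_multiply]
  have h : s.1ᵀ * (s⁻¹).1ᵀ = 1 := by
    rw [← transpose_mul, ← Matrix.SpecialLinearGroup.coe_mul, inv_mul_cancel,
      Matrix.SpecialLinearGroup.coe_one, transpose_one]
  simp only [Matrix.mul_one, Matrix.one_mul, Matrix.mul_zero, Matrix.zero_mul, add_zero, zero_add,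
    Matrix.mul_assoc, h]

theorem dia_conj_symm (d : Fin m → Fˣ) {S : Matrix (Fin m) (Fin m) F} (hS : S.IsSymm) :
    (diagonal (fun i => (d i : F)) * S * diagonal (fun i => (d i : F))).IsSymm := by
  show (diagonal (fun i => (d i : F)) * S * diagonal (fun i => (d i : F)))ᵀ = _
  rw [transpose_mul, transpose_mul, diagonal_transpose, hS.eq, Matrix.mul_assoc]

theorem dia_conj_sieg (d : Fin m → Fˣ) {S : Matrix (Fin m) (Fin m) F} (hS : S.IsSymm) :
    dia d * sieg S hS * (dia d)⁻¹ =
      sieg (diagonal (fun i => (d i : F)) * S * diagonal (fun i => (d i : F))) (dia_conj_symm d hS) := by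
  rw [mul_inv_eq_iff_eq_mul]
  apply Subtype.ext
  rw [Submonoid.coe_mul, Submonoid.coe_mul, dia_coe, sieg_coe, sieg_coe, fromBlocks_multiply,
    fromBlocks_multiply]
  have h : diagonal (fun i => (d i : F)) * diagonal (fun i => (((d i)⁻¹ : Fˣ) : F)) = 1 := by
    rw [diagonal_mul_diagonal, ← diagonal_one]
    exact congrArg _ (funext fun i => Units.mul_inv _)
  simp [Matrix.mul_assoc]

/-- The reflection at the `j`-th long root, carrying a short Siegel element into the Levi part. -/
theorem weyl_conj {i j : Fin m} (hij : i ≠ j) (c : F) :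
    (tv (eI j : Vec m F) 1 * tv (fI j : Vec m F) 1 * tv (eI j : Vec m F) 1) *
        sieg (E2 i j c) (E2_symm i j c) *
        (tv (eI j : Vec m F) 1 * tv (fI j : Vec m F) 1 * tv (eI j : Vec m F) 1)⁻¹ =
      levi (transvection hij c) := by
  rw [mul_inv_eq_iff_eq_mul]
  refine Symplectic.eq_of_smul_eq fun x => ?_
  simp only [mul_smul, Symplectic.tv_smul, Symplectic.sympForm_eI_right, Symplectic.sympForm_fI_right]
  simp only [Symplectic.smul_eq, sieg_coe, levi_coe, fromBlocks_mulVec, one_mul,
    Matrix.SpecialLinearGroup.transvection_inv, transvection_coe]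
  funext z
  rcases z with z | z <;>
    · rcases eq_or_ne z j with rfl | hzj
      · simp [eI, fI, E2, Matrix.add_mulVec, Matrix.transpose_add, hij, hij.symm, Matrix.mulVec,
          dotProduct, Matrix.single_apply]
        try ring
      · rcases eq_or_ne z i with rfl | hzi
        · simp [eI, fI, E2, Matrix.add_mulVec, Matrix.transpose_add, hij, hij.symm, Matrix.mulVec,
            dotProduct, Matrix.single_apply]
          try ring
        · simp [eI, fI, E2, Matrix.add_mulVec, Matrix.transpose_add, hij, hij.symm, hzj, hzj.symm,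
            hzi, hzi.symm, Matrix.mulVec, dotProduct, Matrix.single_apply]
          try ring

variable [Fintype F] (p : ℕ) [Fact p.Prime] [CharP F p]

/-- A central element of the unipotent group. -/
theorem center_shape (hm : 2 ≤ m) {u : Sp m F} (hu : u ∈ U m F)
    (hc : ∀ v ∈ U m F, v * u = u * v) :
    ∃ a b : F, (2 : F) * b = 0 ∧
      u = sieg (Matrix.single ⟨0, by omega⟩ ⟨0, by omega⟩ a + E2 ⟨0, by omega⟩ ⟨1, by omega⟩ b)
        ((single_symm _ a).add (E2_symm _ _ b)) := by
  have hA : blA u = 1 := by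
    ext x i
    have hcomm : u * tv (eI i : Vec m F) 1 * u⁻¹ = tv (eI i : Vec m F) 1 :=
      mul_inv_eq_iff_eq_mul.mpr (hc _ (tv_eI_mem_U i 1)).symm
    rw [Symplectic.conj_tv] at hcomm
    have h := congrArg (fun t : Sp m F => t • (fI i : Vec m F)) hcomm
    simp only [Symplectic.tv_smul, Symplectic.sympForm_eI_right, one_mul, add_right_inj] at h
    rw [Symplectic.sympForm_fI_left] at h
    simp only [smul_eI] at h
    have hii : u.1 (Sum.inl i) (Sum.inl i) = 1 := by
      have := (mem_U.mp hu).2 i i le_rfl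
      rwa [if_pos rfl] at this
    have := congrFun h (Sum.inl x)
    rw [Pi.smul_apply, Pi.smul_apply, smul_eI, hii, one_smul] at this
    show u.1 (Sum.inl x) (Sum.inl i) = _
    rw [this]
    simp [fI, eI, Pi.single_apply, Matrix.one_apply]
  obtain ⟨S, hS, hdec⟩ := eq_levi_mul_sieg hu
  have hs : sA hu = 1 := Subtype.ext hA
  rw [hs, map_one, one_mul] at hdec
  have key : ∀ i j : Fin m, i < j → (∀ y, y ≠ i → S j y = 0) ∧ (2 : F) * S i j = 0 := by
    intro i j hij
    have h := congrArg blB (hc _ (levi_mem_U (PSL.transvection_mem_uni hij (1 : F))))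
    simp only [hdec, blB_mul, blA_levi, blB_levi, blD_levi, blA_sieg, blB_sieg, blD_sieg,
      Matrix.zero_mul, Matrix.mul_zero, add_zero, zero_add, Matrix.one_mul, Matrix.mul_one,
      Matrix.SpecialLinearGroup.transvection_inv, PSL.coe_transvection] at h
    have ht : (Matrix.transvection i j (-1 : F))ᵀ = Matrix.transvection j i (-1) := by
      rw [Matrix.transvection, Matrix.transvection, transpose_add, transpose_one, transpose_single]
    rw [ht] at h
    refine ⟨fun y hy => ?_, ?_⟩
    · have h2 := congrFun (congrFun h i) y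
      rw [Matrix.transvection_mul_apply_same, Matrix.mul_transvection_apply_of_ne (hb := hy),
        one_mul] at h2
      exact add_eq_left.mp h2
    · have h2 := congrFun (congrFun h i) i
      rw [Matrix.transvection_mul_apply_same, Matrix.mul_transvection_apply_same, hS.apply i j] at h2
      linear_combination h2
  set z0 : Fin m := ⟨0, by omega⟩
  set m1 : Fin m := ⟨1, by omega⟩
  have h01 : z0 < m1 := Fin.lt_def.mpr (by simp [z0, m1])
  refine ⟨S z0 z0, S z0 m1, (key z0 m1 h01).2, hdec.trans (sieg_congr ?_ _)⟩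
  ext x y
  have hrow : ∀ x y : Fin m, x ≠ z0 → y ≠ z0 → S x y = 0 := by
    intro x y hx hy
    refine (key z0 x ?_).1 y hy
    rw [Fin.lt_def]
    have : (x : ℕ) ≠ 0 := fun e => hx (Fin.ext e)
    show 0 < (x : ℕ)
    omega
  have hfirst : ∀ x : Fin m, x ≠ z0 → x ≠ m1 → S x z0 = 0 := by
    intro x hx hx1
    refine (key m1 x ?_).1 z0 h01.ne
    rw [Fin.lt_def]
    have : (x : ℕ) ≠ 0 := fun e => hx (Fin.ext e)
    have : (x : ℕ) ≠ 1 := fun e => hx1 (Fin.ext e)
    show 1 < (x : ℕ)
    omega
  rcases eq_or_ne x z0 with rfl | hx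
  · rcases eq_or_ne y z0 with rfl | hy
    · simp [E2, Matrix.single_apply, h01.ne, h01.ne']
    · rcases eq_or_ne y m1 with rfl | hy1
      · simp [E2, Matrix.single_apply, h01.ne, h01.ne']
      · rw [← hS.apply, hfirst y hy hy1]
        simp [E2, Matrix.single_apply, hy.symm, hy1.symm, h01.ne, h01.ne']
  · rcases eq_or_ne y z0 with rfl | hy
    · rcases eq_or_ne x m1 with rfl | hx1
      · rw [← hS.apply]
        simp [E2, Matrix.single_apply, h01.ne, h01.ne']
      · rw [hfirst x hx hx1]
        simp [E2, Matrix.single_apply, hx.symm, hx1.symm]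
    · rw [hrow x y hx hy]
      simp [E2, Matrix.single_apply, hx.symm, hy.symm]

include p in
theorem noClosed_Ubar (hm : 2 ≤ m) (hex : m = 2 → 3 ≤ Fintype.card F) : NoClosed (Ubar m F) := by
  classical
  intro T hTU hT hcl
  refine le_antisymm hTU ?_
  set π := pr m F
  set z0 : Fin m := ⟨0, by omega⟩
  set m1 : Fin m := ⟨1, by omega⟩
  have h01 : z0 ≠ m1 := by simp [z0, m1]
  have hmove : ∀ (w v g : Sp m F), π w ∈ T → v ∈ U m F → g * w * g⁻¹ = v → π v ∈ T := by
    intro w v g hw hv he
    have e : π g * π w * (π g)⁻¹ = π v := by rw [← map_inv, ← map_mul, ← map_mul, he]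
    rw [← e]
    refine hcl _ hw _ ?_
    rw [e]
    exact ⟨v, hv, rfl⟩
  -- a nontrivial central element
  have hUp : IsPGroup p (Ubar m F) := (isPGroup_U p).map π
  have hTn : (T.subgroupOf (Ubar m F)).Normal := ⟨fun x hx s =>
    Subgroup.mem_subgroupOf.mpr (hcl _ (Subgroup.mem_subgroupOf.mp hx) _ (s * x * s⁻¹ : Ubar m F).2)⟩
  have hTne : T.subgroupOf (Ubar m F) ≠ ⊥ := by
    intro h
    rw [Subgroup.subgroupOf_eq_bot, disjoint_iff, inf_eq_left.mpr hTU] at h
    exact hT h
  obtain ⟨⟨c, hc⟩, hc1⟩ :=
    Subgroup.ne_bot_iff_exists_ne_one.mp (Cfsg.Agent.PGroup.inf_center_ne_bot hUp hTne)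
  obtain ⟨u, hu, huc⟩ := c.2
  have huT : π u ∈ T := by rw [huc]; exact Subgroup.mem_subgroupOf.mp hc.1
  have hu1 : u ≠ 1 := by
    intro e
    apply hc1
    apply Subtype.ext; apply Subtype.ext
    show (c : Cfsg.PSp m F) = 1
    rw [← huc, e, map_one]
  obtain ⟨a, b, h2b, hue⟩ := center_shape hm hu fun v hv => by
    refine pr_injOn (mul_mem hv hu) (mul_mem hu hv) ?_
    rw [map_mul, map_mul, huc]
    exact congrArg Subtype.val (Subgroup.mem_center_iff.mp hc.2 ⟨_, ⟨v, hv, rfl⟩⟩)
  change u = sieg (Matrix.single z0 z0 a + E2 z0 m1 b) _ at hue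
  -- the Siegel elements of `T`
  set Sig : Matrix (Fin m) (Fin m) F → Prop := fun S => ∃ h : S.IsSymm, π (sieg S h) ∈ T with hSig
  have hadd : ∀ {S R}, Sig S → Sig R → Sig (S + R) := by
    rintro S R ⟨h1, h2⟩ ⟨h3, h4⟩
    exact ⟨h1.add h3, by rw [← sieg_mul h1 h3, map_mul]; exact mul_mem h2 h4⟩
  have hneg : ∀ {S}, Sig S → Sig (-S) := by
    rintro S ⟨h1, h2⟩
    exact ⟨h1.neg, by rw [← sieg_inv h1, map_inv]; exact inv_mem h2⟩
  have hsub : ∀ {S R}, Sig S → Sig R → Sig (S - R) := fun h h' => by
    rw [sub_eq_add_neg]; exact hadd h (hneg h')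
  have hlevi : ∀ {S}, Sig S → ∀ s : Matrix.SpecialLinearGroup (Fin m) F, Sig (s.1 * S * s.1ᵀ) := by
    rintro S ⟨h1, h2⟩ s
    exact ⟨levi_conj_symm s h1, hmove _ _ _ h2 (sieg_mem_U _ _) (levi_conj_sieg s h1)⟩
  have hdia : ∀ {S}, Sig S → ∀ d : Fin m → Fˣ,
      Sig (diagonal (fun i => (d i : F)) * S * diagonal (fun i => (d i : F))) := by
    rintro S ⟨h1, h2⟩ d
    exact ⟨dia_conj_symm d h1, hmove _ _ _ h2 (sieg_mem_U _ _) (dia_conj_sieg d h1)⟩
  have hstart : Sig (Matrix.single z0 z0 a + E2 z0 m1 b) := ⟨_, by rw [← hue]; exact huT⟩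
  -- short root elements give long ones
  have hshort : ∀ (j : Fin m) (b : F), z0 ≠ j → b ≠ 0 → Sig (E2 z0 j b) →
      ∃ a, a ≠ 0 ∧ Sig (Matrix.single z0 z0 a) := by
    intro j b hj hb hS
    obtain ⟨h1, h2⟩ := hS
    have hj' : z0 < j := lt_of_le_of_ne (Fin.le_def.mpr (Nat.zero_le _)) hj
    set t := transvection hj b
    have ht : π (levi t) ∈ T := hmove _ _ _ h2 (levi_mem_U (PSL.transvection_mem_uni hj' b))
      (weyl_conj hj b)
    set R : Matrix (Fin m) (Fin m) F := Matrix.single j j 1 with hR
    have hRs : R.IsSymm := single_symm j 1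
    set r := sieg R hRs
    have hr : r ∈ U m F := sieg_mem_U _ _
    have hcomm : π (levi t * r * (levi t)⁻¹ * r⁻¹) ∈ T := by
      have : π (r * (levi t)⁻¹ * r⁻¹) ∈ T := by
        rw [map_mul, map_mul, map_inv, map_inv]
        refine hcl _ (inv_mem ht) _ ?_
        refine mul_mem (mul_mem ⟨r, hr, rfl⟩ (inv_mem ?_)) (inv_mem ⟨r, hr, rfl⟩)
        exact hTU ht
      have h3 := mul_mem ht this
      rw [← map_mul] at h3
      simpa [mul_assoc] using h3
    rw [levi_conj_sieg, sieg_inv, sieg_mul] at hcomm
    refine ⟨b * b, mul_ne_zero hb hb, ?_⟩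
    have h4 : Sig (t.1 * R * t.1ᵀ + -R) := ⟨_, hcomm⟩
    have h5 := hsub h4 ⟨h1, h2⟩
    convert h5 using 1
    simp only [t, hR, transvection_coe, E2, transpose_add, transpose_one, transpose_single,
      Matrix.add_mul, Matrix.mul_add, Matrix.one_mul, Matrix.mul_one,
      Matrix.single_mul_single_same, Matrix.single_mul_single_of_ne, hj, hj.symm, mul_one, one_mul]
    abel
  -- a long root element
  have hlong : ∃ a, a ≠ 0 ∧ Sig (Matrix.single z0 z0 a) := by
    by_cases hb : b = 0
    · refine ⟨a, ?_, ?_⟩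
      · intro ha
        apply hu1
        rw [hue, sieg_congr (by simp [E2, ha, hb]) Matrix.isSymm_zero, sieg_zero]
      · simpa [E2, hb] using hstart
    by_cases ha : a = 0
    · exact hshort m1 b h01 hb (by simpa [ha] using hstart)
    by_cases hm3 : 3 ≤ m
    · set m2 : Fin m := ⟨2, by omega⟩
      have h02 : z0 ≠ m2 := by simp [z0, m2]
      have h12 : m1 ≠ m2 := by simp [m1, m2]
      refine hshort m2 b h02 hb ?_
      have h3 := hsub (hlevi hstart (transvection h12.symm (1 : F))) hstart
      convert h3 using 1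
      simp only [transvection_coe, E2, transpose_add, transpose_one, transpose_single,
        Matrix.add_mul, Matrix.mul_add, Matrix.one_mul, Matrix.mul_one,
        Matrix.single_mul_single_same, Matrix.single_mul_single_of_ne, h01, h01.symm, h02, h02.symm,
        h12, h12.symm, mul_one, one_mul, ne_eq, not_false_eq_true, Matrix.zero_mul, Matrix.mul_zero]
      abel
    · obtain ⟨δ, hδ0, hδ1⟩ : ∃ δ : F, δ ≠ 0 ∧ δ ≠ 1 := by
        by_contra hno
        push Not at hno
        have h := hex (by omega)
        have hsub : (Finset.univ : Finset F) ⊆ {0, 1} := fun x _ => by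
          by_cases hx : x = 0
          · simp [hx]
          · simp [hno x hx]
        have := (Finset.card_le_card hsub).trans Finset.card_le_two
        rw [Finset.card_univ] at this
        omega
      set d : Fin m → Fˣ := Function.update 1 m1 (Units.mk0 δ hδ0)
      refine hshort m1 ((δ - 1) * b) h01 (mul_ne_zero (sub_ne_zero.mpr hδ1) hb) ?_
      have h3 := hsub (hdia hstart d) hstart
      convert h3 using 1
      ext x y
      rw [Matrix.sub_apply, Matrix.mul_diagonal, Matrix.diagonal_mul]
      rcases eq_or_ne x m1 with rfl | hx <;> rcases eq_or_ne y m1 with rfl | hy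
      · simp [d, E2, Matrix.single_apply, h01]
      · rcases eq_or_ne y z0 with rfl | hy0
        · simp [d, E2, Matrix.single_apply, h01, h01.symm, hy]
          ring
        · simp [d, E2, Matrix.single_apply, h01, h01.symm, hy, hy.symm, hy0, hy0.symm]
      · rcases eq_or_ne x z0 with rfl | hx0
        · simp [d, E2, Matrix.single_apply, h01, h01.symm, hx]
          ring
        · simp [d, E2, Matrix.single_apply, h01, h01.symm, hx, hx.symm, hx0, hx0.symm]
      · simp [d, E2, Matrix.single_apply, h01, h01.symm, hx, hx.symm, hy, hy.symm]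
  obtain ⟨a₀, ha₀, hS₀⟩ := hlong
  -- all of the first long root group
  have hsq : ∀ c : F, Sig (Matrix.single z0 z0 (c ^ 2 * a₀)) := by
    intro c
    by_cases hc : c = 0
    · rw [hc, zero_pow two_ne_zero, zero_mul, Matrix.single_zero]
      have := hsub hS₀ hS₀
      rwa [sub_self] at this
    convert hdia hS₀ (fun _ => Units.mk0 c hc) using 1
    ext x y
    rw [Matrix.mul_diagonal, Matrix.diagonal_mul, Matrix.single_apply, Matrix.single_apply,
      Units.val_mk0]
    split_ifs <;> ring
  have hz : ∀ c : F, Sig (Matrix.single z0 z0 c) := by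
    intro c
    by_cases h2 : (2 : F) = 0
    · have : CharP F 2 := CharTwo.of_one_ne_zero_of_two_eq_zero one_ne_zero h2
      obtain ⟨y, hy⟩ := FiniteField.isSquare_of_char_two (ringChar.eq F 2) (c / a₀)
      convert hsq y using 2
      rw [pow_two, ← hy, div_mul_cancel₀ c ha₀]
    · convert hsub (hsq ((c / a₀ + 1) / 2)) (hsq ((c / a₀ - 1) / 2)) using 1
      ext x y
      rw [Matrix.sub_apply, Matrix.single_apply, Matrix.single_apply, Matrix.single_apply]
      split_ifs
      · field_simp
        ring
      · rw [sub_zero]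
  -- all long root groups
  have hdiag : ∀ (i : Fin m) (c : F), Sig (Matrix.single i i c) := by
    intro i c
    rcases eq_or_ne i z0 with rfl | hi
    · exact hz c
    convert hlevi (hlevi (hz c) (transvection hi (1 : F))) (transvection hi.symm (-1 : F)) using 1
    simp only [transvection_coe, transpose_add, transpose_one, transpose_single,
      Matrix.add_mul, Matrix.mul_add, Matrix.one_mul, Matrix.mul_one, Matrix.single_mul_single_same,
      Matrix.single_mul_single_of_ne, hi, hi.symm, mul_one, one_mul, ne_eq, not_false_eq_true,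
      Matrix.zero_mul, Matrix.mul_zero, add_zero, zero_add, neg_mul, mul_neg, neg_neg,
      neg_one_mul, mul_neg_one, transpose_neg, Matrix.mul_neg, Matrix.neg_mul,
      show ∀ (x y : Fin m) (e : F), Matrix.single x y (-e) = -Matrix.single x y e from
        fun x y e => by ext a b; simp only [Matrix.single_apply, Matrix.neg_apply]; split_ifs <;> simp]
    abel
  have hoff : ∀ (i j : Fin m) (c : F), i ≠ j → Sig (E2 i j c) := by
    intro i j c hij
    convert hsub (hsub (hlevi (hdiag i c) (transvection hij.symm (1 : F))) (hdiag i c)) (hdiag j c)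
      using 1
    simp only [transvection_coe, E2, transpose_add, transpose_one, transpose_single,
      Matrix.add_mul, Matrix.mul_add, Matrix.one_mul, Matrix.mul_one, Matrix.single_mul_single_same,
      Matrix.single_mul_single_of_ne, hij, hij.symm, mul_one, one_mul, ne_eq, not_false_eq_true,
      Matrix.zero_mul, Matrix.mul_zero, add_zero, zero_add]
    abel
  have hall : ∀ S : Matrix (Fin m) (Fin m) F, S.IsSymm → Sig S := by
    intro S hS
    set f : Fin m × Fin m → Matrix (Fin m) (Fin m) F := fun q =>
      if q.1 = q.2 then Matrix.single q.1 q.1 (S q.1 q.1)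
      else if q.1 < q.2 then E2 q.1 q.2 (S q.1 q.2) else 0 with hf
    have hs : ∀ s : Finset (Fin m × Fin m), Sig (∑ q ∈ s, f q) := by
      intro s
      induction s using Finset.induction_on with
      | empty =>
        rw [Finset.sum_empty]
        have := hsub hS₀ hS₀
        rwa [sub_self] at this
      | @insert q s hq ih =>
        rw [Finset.sum_insert hq]
        refine hadd ?_ ih
        show Sig (if q.1 = q.2 then _ else _)
        split_ifs with h1 h2
        · exact hdiag _ _
        · exact hoff _ _ _ h1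
        · have := hsub hS₀ hS₀
          rwa [sub_self] at this
    convert hs Finset.univ
    ext x y
    rw [Matrix.sum_apply]
    rcases lt_trichotomy x y with h | rfl | h
    · rw [Finset.sum_eq_single (x, y) ?_ (by simp), hf]
      · simp [h.ne, h, E2, Matrix.single_apply, h.ne']
      · rintro ⟨i, j⟩ - hne
        simp only [hf]
        split_ifs with h1 h2
        · subst h1
          rw [Matrix.single_apply, if_neg]
          rintro ⟨rfl, rfl⟩
          exact lt_irrefl _ h
        · simp only [E2, Matrix.add_apply, Matrix.single_apply]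
          rw [if_neg (fun e => hne (Prod.ext e.1 e.2)), if_neg, add_zero]
          rintro ⟨rfl, rfl⟩
          exact lt_asymm h h2
        · rfl
    · rw [Finset.sum_eq_single (x, x) ?_ (by simp), hf]
      · simp [Matrix.single_apply]
      · rintro ⟨i, j⟩ - hne
        simp only [hf]
        split_ifs with h1 h2
        · subst h1
          rw [Matrix.single_apply, if_neg]
          rintro ⟨rfl, -⟩
          exact hne rfl
        · simp only [E2, Matrix.add_apply, Matrix.single_apply]
          rw [if_neg, if_neg, add_zero]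
          · rintro ⟨rfl, rfl⟩; exact h1 rfl
          · rintro ⟨rfl, rfl⟩; exact h1 rfl
        · rfl
    · rw [Finset.sum_eq_single (y, x) ?_ (by simp), hf]
      · simp [h.ne, h, E2, Matrix.single_apply, h.ne', hS.apply x y]
      · rintro ⟨i, j⟩ - hne
        simp only [hf]
        split_ifs with h1 h2
        · subst h1
          rw [Matrix.single_apply, if_neg]
          rintro ⟨rfl, rfl⟩
          exact lt_irrefl _ h
        · simp only [E2, Matrix.add_apply, Matrix.single_apply]
          rw [if_neg, if_neg (fun e => hne (Prod.ext e.2 e.1).symm.symm), add_zero]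
          rintro ⟨rfl, rfl⟩
          exact lt_asymm h h2
        · rfl
  -- the Levi part
  have huni : uni m F ≤ (T.comap π).comap levi := by
    refine PSL.uni_le_of_transvection_mem fun i j hij c => ?_
    obtain ⟨h1, h2⟩ := hoff i j c hij.ne
    exact hmove _ _ _ h2 (levi_mem_U (PSL.transvection_mem_uni hij c)) (weyl_conj hij.ne c)
  rintro _ ⟨g, hg, rfl⟩
  obtain ⟨S, hS, hge⟩ := eq_levi_mul_sieg hg
  obtain ⟨h1, h2⟩ := hall S hS
  rw [hge, map_mul]
  exact mul_mem (huni (sA_mem hg)) h2

end Cfsg.Agent.Fusion91.PSp
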