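import Cfsg.Agent.Fusion91.PSp.Borel
import Cfsg.Agent.Fusion91.PSL.Simple

set_option autoImplicit false

/-! The normalizer of the Sylow subgroup of `PSp` is generated by elements of the minimal parabolics. -/

namespace Cfsg.Agent.Fusion91.PSp

open Matrix
open Matrix.SpecialLinearGroup (transvection diag2n diag2n_coe transvection_coe)
open Cfsg.Agent.Symplectic (Sp Vec tv negOne eI fI)
open Cfsg.Agent.AutPSL (IsUni uni mem_uni)

variable {m : ℕ} [NeZero m] {F : Type*} [Field F] [Fintype F]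

omit [NeZero m] in
theorem sA_mul {g h : Sp m F} (hg : g ∈ U m F) (hh : h ∈ U m F) :
    sA (mul_mem hg hh) = sA hg * sA hh :=
  Subtype.ext (by
    rw [Matrix.SpecialLinearGroup.coe_mul]
    exact blA_mul hh.1)

theorem super_mul {i j : Fin m} (hij : (i : ℕ) + 1 = j) {g h : Sp m F} (hg : g ∈ U m F)
    (hh : h ∈ U m F) : blA (g * h) i j = blA g i j + blA h i j := by
  have := PSL.super_mul hij (sA_mem hg) (sA_mem hh)
  rw [← sA_mul hg hh] at this
  exact this

/-- The radical of a minimal parabolic at a short root. -/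
noncomputable def radS {i j : Fin m} (hij : (i : ℕ) + 1 = j) : Subgroup (Sp m F) where
  carrier := {g | g ∈ U m F ∧ blA g i j = 0}
  one_mem' := ⟨one_mem _, by
    rw [blA_one, Matrix.one_apply_ne]
    intro e; subst e; omega⟩
  mul_mem' {u v} hu hv := ⟨mul_mem hu.1 hv.1, by rw [super_mul hij hu.1 hv.1, hu.2, hv.2, add_zero]⟩
  inv_mem' {u} hu := ⟨inv_mem hu.1, by
    have h := super_mul hij hu.1 (inv_mem hu.1)
    rw [mul_inv_cancel, blA_one, Matrix.one_apply_ne, hu.2, zero_add] at h
    · exact h.symm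
    · intro e; subst e; omega⟩

omit [NeZero m] in
theorem long_mul {L : Fin m} (hL : ∀ a, a ≤ L) {g h : Sp m F} (hg : g ∈ U m F) (hh : h ∈ U m F) :
    blB (g * h) L L = blB g L L + blB h L L := by
  rw [blB_mul, Matrix.add_apply, Matrix.mul_apply, Matrix.mul_apply,
    Finset.sum_eq_single L ?_ (by simp), Finset.sum_eq_single L ?_ (by simp),
    (mem_U.mp hg).2 L L le_rfl, blD_apply hh le_rfl, if_pos rfl, one_mul, mul_one, add_comm]
  · intro x _ hx
    rw [blD_apply hh (hL x), if_neg hx, mul_zero]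
  · intro x _ hx
    rw [(mem_U.mp hg).2 L x (hL x), if_neg (Ne.symm hx), zero_mul]

/-- The radical of the minimal parabolic at the long root. -/
noncomputable def radL {L : Fin m} (hL : ∀ a, a ≤ L) : Subgroup (Sp m F) where
  carrier := {g | g ∈ U m F ∧ blB g L L = 0}
  one_mem' := ⟨one_mem _, by rw [blB_one]; rfl⟩
  mul_mem' {u v} hu hv := ⟨mul_mem hu.1 hv.1, by rw [long_mul hL hu.1 hv.1, hu.2, hv.2, add_zero]⟩
  inv_mem' {u} hu := ⟨inv_mem hu.1, by
    have h := long_mul hL hu.1 (inv_mem hu.1)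
    rw [mul_inv_cancel, blB_one, Matrix.zero_apply, hu.2, zero_add] at h
    exact h.symm⟩

theorem radS_conj_U {i j : Fin m} (hij : (i : ℕ) + 1 = j) {u r : Sp m F}
    (hu : u ∈ U m F) (hr : r ∈ radS hij) : u * r * u⁻¹ ∈ radS hij := by
  refine ⟨mul_mem (mul_mem hu hr.1) (inv_mem hu), ?_⟩
  have h := super_mul hij hu (inv_mem hu)
  rw [mul_inv_cancel, blA_one, Matrix.one_apply_ne] at h
  · rw [super_mul hij (mul_mem hu hr.1) (inv_mem hu), super_mul hij hu hr.1, hr.2, add_zero]
    exact h.symm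
  · intro e; subst e; omega

theorem radS_conj_lower {i j : Fin m} (hij : (i : ℕ) + 1 = j) (a : F) {r : Sp m F}
    (hr : r ∈ radS hij) :
    levi (transvection (show j ≠ i by intro e; subst e; omega) a) * r *
      (levi (transvection (show j ≠ i by intro e; subst e; omega) a))⁻¹ ∈ radS hij := by
  set y := transvection (show j ≠ i by intro e; subst e; omega) a
  obtain ⟨h1, h2⟩ := PSL.rad_conj_lower hij a (r := sA hr.1) ⟨sA_mem hr.1, hr.2⟩
  have hA : blA (levi y * r * (levi y)⁻¹) = (y * sA hr.1 * y⁻¹).1 := by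
    rw [← map_inv, blA_mul (blC_levi _), blA_mul hr.1.1, blA_levi, blA_levi,
      Matrix.SpecialLinearGroup.coe_mul, Matrix.SpecialLinearGroup.coe_mul]
    rfl
  refine ⟨mem_U.mpr ⟨?_, by rw [hA]; exact h1⟩, by rw [hA]; exact h2⟩
  rw [← map_inv]
  exact blC_mul (blC_mul (blC_levi _) hr.1.1) (blC_levi _)

omit [NeZero m] [Fintype F] in
theorem tv_fI_coe (L : Fin m) (c : F) :
    (tv (fI L : Vec m F) c).1 = Matrix.transvection (Sum.inr L) (Sum.inl L) (-c) := by
  refine Matrix.ext_of_mulVec_single fun y => ?_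
  rw [← Symplectic.smul_eq, Symplectic.tv_smul, Symplectic.sympForm_fI_right, Matrix.transvection,
    Matrix.add_mulVec, Matrix.one_mulVec]
  funext z
  by_cases hy : y = Sum.inl L <;> by_cases hz : z = Sum.inr L <;>
    simp [fI, hy, hz, Matrix.mulVec_single_one, Matrix.single_apply, Pi.single_apply, Ne.symm]

omit [NeZero m] in
theorem radL_conj_lower {L : Fin m} (hL : ∀ a, a ≤ L) (c : F) {r : Sp m F}
    (hr : r ∈ radL hL) : tv (fI L : Vec m F) c * r * (tv (fI L : Vec m F) c)⁻¹ ∈ radL hL := by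
  obtain ⟨hu, hz⟩ := hr
  rw [Symplectic.tv_inv]
  set y := tv (fI L : Vec m F) c * r * tv (fI L : Vec m F) (-c) with hy
  have hcoe : y.1 = Matrix.transvection (Sum.inr L) (Sum.inl L) (-c) * r.1 *
      Matrix.transvection (Sum.inr L) (Sum.inl L) c := by
    rw [hy, Submonoid.coe_mul, Submonoid.coe_mul, tv_fI_coe, tv_fI_coe, neg_neg]
  have hA : ∀ a b, b ≤ a → r.1 (Sum.inl a) (Sum.inl b) = if a = b then 1 else 0 :=
    fun a b h => (mem_U.mp hu).2 a b h
  have hC : ∀ a b, r.1 (Sum.inr a) (Sum.inl b) = 0 := fun a b => congrFun (congrFun hu.1 a) b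
  have hD : ∀ a b, a ≤ b → r.1 (Sum.inr a) (Sum.inr b) = if a = b then 1 else 0 :=
    fun a b h => blD_apply hu h
  have hB : r.1 (Sum.inl L) (Sum.inr L) = 0 := hz
  refine ⟨mem_U.mpr ⟨?_, fun a b hba => ?_⟩, ?_⟩
  · ext a b
    show y.1 (Sum.inr a) (Sum.inl b) = 0
    rw [hcoe]
    rcases eq_or_ne b L with rfl | hbL
    · rw [Matrix.mul_transvection_apply_same]
      rcases eq_or_ne a b with rfl | haL
      · rw [Matrix.transvection_mul_apply_same, Matrix.transvection_mul_apply_same, hC,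
          hA a a le_rfl, hD a a le_rfl, hB, if_pos rfl]
        ring
      · rw [Matrix.transvection_mul_apply_of_ne (ha := fun e => haL (Sum.inr.inj e)),
          Matrix.transvection_mul_apply_of_ne (ha := fun e => haL (Sum.inr.inj e)), hC,
          hD a b (hL a), if_neg haL]
        ring
    · rw [Matrix.mul_transvection_apply_of_ne (hb := fun e => hbL (Sum.inl.inj e))]
      rcases eq_or_ne a L with rfl | haL
      · rw [Matrix.transvection_mul_apply_same, hC, hA a b (hL b), if_neg (Ne.symm hbL)]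
        ring
      · rw [Matrix.transvection_mul_apply_of_ne (ha := fun e => haL (Sum.inr.inj e)), hC]
  · show y.1 (Sum.inl a) (Sum.inl b) = _
    rw [hcoe]
    rcases eq_or_ne b L with rfl | hbL
    · rw [Matrix.mul_transvection_apply_same, Matrix.transvection_mul_apply_of_ne (ha := Sum.inl_ne_inr),
        Matrix.transvection_mul_apply_of_ne (ha := Sum.inl_ne_inr), hA a b hba,
        show a = b from le_antisymm (hL a) hba, hB]
      ring
    · rw [Matrix.mul_transvection_apply_of_ne (hb := fun e => hbL (Sum.inl.inj e)),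
        Matrix.transvection_mul_apply_of_ne (ha := Sum.inl_ne_inr), hA a b hba]
  · show y.1 (Sum.inl L) (Sum.inr L) = 0
    rw [hcoe, Matrix.mul_transvection_apply_of_ne (hb := Sum.inr_ne_inl),
      Matrix.transvection_mul_apply_of_ne (ha := Sum.inl_ne_inr), hB]

omit [NeZero m] [Fintype F] in
/-- The long root torus as a product of transvections. -/
theorem dia_update_eq (L : Fin m) (a : Fˣ) :
    dia (Function.update (1 : Fin m → Fˣ) L a) =
      tv (eI L : Vec m F) a * tv (fI L : Vec m F) ((a⁻¹ : Fˣ) : F) * tv (eI L : Vec m F) a *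
        tv (eI L : Vec m F) (-1) * tv (fI L : Vec m F) (-1) * tv (eI L : Vec m F) (-1) := by
  refine Symplectic.eq_of_smul_eq fun x => ?_
  simp only [mul_smul, Symplectic.tv_smul, Symplectic.sympForm_eI_right, Symplectic.sympForm_fI_right]
  rw [Symplectic.smul_eq, dia_coe, fromBlocks_mulVec]
  funext z
  have ha : (a : F) ≠ 0 := a.ne_zero
  rcases z with z | z <;>
    · rcases eq_or_ne z L with rfl | hz
      · simp [eI, fI, Matrix.mulVec_diagonal, Units.val_inv_eq_inv_val]
        field_simp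
        ring
      · simp [eI, fI, Matrix.mulVec_diagonal, hz]

omit [NeZero m] [Fintype F] in
theorem tv_pow (p : ℕ) [CharP F p] (w : Vec m F) (c : F) : tv w c ^ p = 1 := by
  have key : ∀ k : ℕ, tv w c ^ k = tv w ((k : F) * c) := by
    intro k
    induction k with
    | zero => simp
    | succ k ih => rw [pow_succ, ih, Symplectic.tv_mul_tv]; push_cast; ring_nf
  rw [key, CharP.cast_eq_zero, zero_mul, Symplectic.tv_zero]

omit [NeZero m] [Fintype F] in
theorem blD_unique {g h : Sp m F} (hg : blC g = 0) (hh : blC h = 0) (e : blA g = blA h) :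
    blD g = blD h := by
  have h1 := (upper_rel hg).1
  have h2 := (upper_rel hh).1
  rw [← e] at h2
  rw [← Matrix.inv_eq_right_inv h1, ← Matrix.inv_eq_right_inv h2]

omit [NeZero m] [Fintype F] in
theorem levi_eq_dia {s : Matrix.SpecialLinearGroup (Fin m) F} {d : Fin m → Fˣ}
    (h : s.1 = diagonal fun i => (d i : F)) : levi s = dia d :=
  bl_ext (by rw [blA_levi, blA_dia, h]) (by rw [blB_levi, blB_dia]) (by rw [blC_levi, blC_dia])
    (blD_unique (blC_levi _) (blC_dia _) (by rw [blA_levi, blA_dia, h]))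

variable (p : ℕ) [Fact p.Prime] [CharP F p]

/-- A torus element normalizes the Sylow subgroup. -/
theorem dia_mem_normalizer (d : Fin m → Fˣ) :
    pr m F (dia d) ∈ Subgroup.normalizer ((Ubar m F : Subgroup _) : Set (Cfsg.PSp m F)) := by
  refine PSL.mem_normalizer_of_maps ?_
  rintro _ ⟨u, hu, rfl⟩
  exact ⟨_, dia_conj_mem_U d hu, by rw [map_mul, map_mul, map_inv]⟩

include p in
omit [NeZero m] in
theorem orderOf_pow_of_pow_eq_one {g : Sp m F} (h : g ^ p = 1) :
    ∃ k : ℕ, orderOf (pr m F g) = p ^ k := by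
  obtain ⟨k, -, hk⟩ := (Nat.dvd_prime_pow Fact.out).mp
    (show orderOf (pr m F g) ∣ p ^ 1 by
      rw [pow_one]; exact orderOf_dvd_of_pow_eq_one (by rw [← map_pow, h, map_one]))
  exact ⟨k, hk⟩

theorem conj_mem_normalizer {R : Subgroup (Sp m F)} {y : Sp m F}
    (h : ∀ r ∈ R, y * r * y⁻¹ ∈ R) :
    pr m F y ∈ Subgroup.normalizer ((R.map (pr m F) : Subgroup _) : Set (Cfsg.PSp m F)) := by
  refine PSL.mem_normalizer_of_maps ?_
  rintro _ ⟨r, hr, rfl⟩
  exact ⟨_, h r hr, by rw [map_mul, map_mul, map_inv]⟩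

include p in
/-- The torus element at a short simple root. -/
theorem short_mem_genSub {i j : Fin m} (hij : (i : ℕ) + 1 = j) (a : F) (ha : a ≠ 0) :
    pr m F (levi (diag2n (show i ≠ j by intro e; subst e; omega) a ha)) ∈ genSub p (Ubar m F) := by
  have hne : i ≠ j := by intro e; subst e; omega
  have hlt : i < j := Fin.lt_def.mpr (by omega)
  set π := pr m F
  have h1 : (radS (F := F) hij).map π ≤ Ubar m F := Subgroup.map_mono fun u hu => hu.1
  have h2 : Ubar m F ≤ Subgroup.normalizer (((radS (F := F) hij).map π : Subgroup _) : Set _) := by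
    rintro _ ⟨u, hu, rfl⟩
    exact conj_mem_normalizer fun r hr => radS_conj_U hij hu hr
  have h3 : Cfsg.FusionSystem.centralizerIn (Ubar m F) ((radS (F := F) hij).map π) ≤
      (radS (F := F) hij).map π := by
    rintro _ ⟨⟨u, hu, rfl⟩, hc⟩
    refine ⟨u, ⟨hu, ?_⟩, rfl⟩
    have hr : tv (eI j : Vec m F) 1 ∈ radS hij :=
      ⟨tv_eI_mem_U j 1, by rw [tv_eI_eq, blA_sieg, Matrix.one_apply_ne hne]⟩
    have hcomm : u * tv (eI j : Vec m F) 1 * u⁻¹ = tv (eI j : Vec m F) 1 := by
      rw [mul_inv_eq_iff_eq_mul]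
      refine (pr_injOn (mul_mem hr.1 hu) (mul_mem hu hr.1) ?_).symm
      rw [map_mul, map_mul]
      exact hc _ ⟨_, hr, rfl⟩
    rw [Symplectic.conj_tv] at hcomm
    have h := congrArg (fun t : Sp m F => t • (fI j : Vec m F)) hcomm
    simp only [Symplectic.tv_smul, Symplectic.sympForm_eI_right, one_mul, add_right_inj] at h
    rw [Symplectic.sympForm_fI_left] at h
    simp only [smul_eI] at h
    have hjj : u.1 (Sum.inl j) (Sum.inl j) = 1 := by
      have := (mem_U.mp hu).2 j j le_rfl
      rwa [if_pos rfl] at this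
    have := congrFun h (Sum.inl i)
    rw [Pi.smul_apply, Pi.smul_apply, smul_eI, hjj, one_smul] at this
    show u.1 (Sum.inl i) (Sum.inl j) = 0
    simpa [fI, eI, hne] using this
  refine Subgroup.mem_sup_right (Subgroup.mem_iSup_of_mem ((radS (F := F) hij).map π)
    (Subgroup.mem_iSup_of_mem ⟨h1, h2, h3⟩ (Subgroup.mem_inf.mpr ⟨?_, ?_⟩)))
  · rw [levi_eq_dia (d := fun l => if l = i then Units.mk0 a ha else
      if l = j then (Units.mk0 a ha)⁻¹ else 1) (by
        rw [diag2n_coe]
        congr 1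
        funext l
        split_ifs <;> simp)]
    exact dia_mem_normalizer _
  · have hmem : ∀ c : F, ∀ (y : Matrix.SpecialLinearGroup (Fin m) F),
        (y = transvection hne c ∨ y = transvection hne.symm c) →
        π (levi y) ∈ Subgroup.closure {g | g ∈ Subgroup.normalizer (((radS (F := F) hij).map π :
          Subgroup _) : Set _) ∧ ∃ k : ℕ, orderOf g = p ^ k} := by
      intro c y hy
      refine Subgroup.subset_closure ⟨conj_mem_normalizer fun r hr => ?_, ?_⟩
      · rcases hy with rfl | rfl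
        · exact radS_conj_U hij (levi_mem_U (PSL.transvection_mem_uni hlt c)) hr
        · exact radS_conj_lower hij c hr
      · refine orderOf_pow_of_pow_eq_one p ?_
        rw [← map_pow]
        rcases hy with rfl | rfl <;> rw [PSL.transvection_pow p _ c, map_one]
    rw [LinearGroup.diag2n_eq_prod_transvection hne a ha]
    simp only [map_mul]
    exact mul_mem (mul_mem (mul_mem (mul_mem (mul_mem (hmem _ _ (Or.inl rfl)) (hmem _ _ (Or.inr rfl)))
      (hmem _ _ (Or.inl rfl))) (hmem _ _ (Or.inl rfl))) (hmem _ _ (Or.inr rfl))) (hmem _ _ (Or.inl rfl))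

include p in
/-- The torus element at the long simple root. -/
theorem long_mem_genSub {L : Fin m} (hL : ∀ a, a ≤ L) (hm : 2 ≤ m) (a : Fˣ) :
    pr m F (dia (Function.update (1 : Fin m → Fˣ) L a)) ∈ genSub p (Ubar m F) := by
  set π := pr m F
  set k : Fin m := ⟨m - 2, by omega⟩ with hk
  have hkL : k < L := by
    have h1 := hL ⟨m - 1, by omega⟩
    rw [Fin.le_def] at h1
    rw [Fin.lt_def, hk]
    show m - 2 < (L : ℕ)
    have h2 : m - 1 ≤ (L : ℕ) := h1
    omega
  have h1 : (radL (F := F) hL).map π ≤ Ubar m F := Subgroup.map_mono fun u hu => hu.1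
  have hconj : ∀ u ∈ U m F, ∀ r ∈ radL hL, u * r * u⁻¹ ∈ radL (F := F) hL := by
    intro u hu r hr
    refine ⟨mul_mem (mul_mem hu hr.1) (inv_mem hu), ?_⟩
    have h := long_mul hL hu (inv_mem hu)
    rw [mul_inv_cancel, blB_one, Matrix.zero_apply] at h
    rw [long_mul hL (mul_mem hu hr.1) (inv_mem hu), long_mul hL hu hr.1, hr.2, add_zero]
    exact h.symm
  have h2 : Ubar m F ≤ Subgroup.normalizer (((radL (F := F) hL).map π : Subgroup _) : Set _) := by
    rintro _ ⟨u, hu, rfl⟩
    exact conj_mem_normalizer fun r hr => hconj u hu r hr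
  have h3 : Cfsg.FusionSystem.centralizerIn (Ubar m F) ((radL (F := F) hL).map π) ≤
      (radL (F := F) hL).map π := by
    rintro _ ⟨⟨u, hu, rfl⟩, hc⟩
    refine ⟨u, ⟨hu, ?_⟩, rfl⟩
    set t := transvection hkL.ne (1 : F)
    have hr : levi t ∈ radL hL :=
      ⟨levi_mem_U (PSL.transvection_mem_uni hkL 1), by rw [blB_levi]; rfl⟩
    have hcomm : levi t * u = u * levi t := by
      refine pr_injOn (mul_mem hr.1 hu) (mul_mem hu hr.1) ?_
      rw [map_mul, map_mul]
      exact hc _ ⟨_, hr, rfl⟩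
    have h := congrArg (fun g : Sp m F => blB g k L) hcomm
    simp only [blB_mul, blA_levi, blB_levi, blD_levi, Matrix.zero_mul, add_zero, Matrix.mul_zero,
      zero_add, t, Matrix.SpecialLinearGroup.transvection_inv, PSL.coe_transvection] at h
    rw [Matrix.transvection_mul_apply_same, one_mul] at h
    rw [Matrix.mul_apply, Finset.sum_eq_single L ?_ (by simp), Matrix.transpose_apply] at h
    · simpa [Matrix.transvection, Matrix.one_apply, Matrix.single_apply, hkL.ne, hkL.ne'] using h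
    · intro x _ hx
      simp [Matrix.transvection, Matrix.one_apply, Matrix.single_apply, hx, hx.symm, hkL.ne, hkL.ne']
  refine Subgroup.mem_sup_right (Subgroup.mem_iSup_of_mem ((radL (F := F) hL).map π)
    (Subgroup.mem_iSup_of_mem ⟨h1, h2, h3⟩ (Subgroup.mem_inf.mpr ⟨dia_mem_normalizer _, ?_⟩)))
  have hmem : ∀ (w : Vec m F) (c : F), (w = eI L ∨ w = fI L) →
      π (tv w c) ∈ Subgroup.closure {g | g ∈ Subgroup.normalizer (((radL (F := F) hL).map π :
        Subgroup _) : Set _) ∧ ∃ k : ℕ, orderOf g = p ^ k} := by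
    intro w c hw
    refine Subgroup.subset_closure ⟨conj_mem_normalizer fun r hr => ?_,
      orderOf_pow_of_pow_eq_one p (tv_pow p w c)⟩
    rcases hw with rfl | rfl
    · exact hconj _ (tv_eI_mem_U L c) r hr
    · exact radL_conj_lower hL c hr
  rw [dia_update_eq]
  simp only [map_mul]
  exact mul_mem (mul_mem (mul_mem (mul_mem (mul_mem (hmem _ _ (Or.inl rfl)) (hmem _ _ (Or.inr rfl)))
    (hmem _ _ (Or.inl rfl))) (hmem _ _ (Or.inl rfl))) (hmem _ _ (Or.inr rfl))) (hmem _ _ (Or.inl rfl))

include p in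
theorem dia_mem_genSub (hm : 2 ≤ m) (d : Fin m → Fˣ) :
    pr m F (dia d) ∈ genSub p (Ubar m F) := by
  classical
  set L : Fin m := ⟨m - 1, by omega⟩
  have hL : ∀ a, a ≤ L := fun a => Fin.le_def.mpr (by have := a.isLt; show (a : ℕ) ≤ m - 1; omega)
  set P := ∏ l, d l
  set e : Fin m → Fˣ := d * Function.update (1 : Fin m → Fˣ) L P⁻¹ with he
  have hprod : ∏ l, e l = 1 := by
    rw [he, Finset.prod_congr rfl fun l _ => Pi.mul_apply d _ l, Finset.prod_mul_distrib,
      Finset.prod_update_of_mem (Finset.mem_univ L)]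
    simp only [Pi.one_apply, Finset.prod_const_one, mul_one]
    exact mul_inv_cancel P
  set s : Matrix.SpecialLinearGroup (Fin m) F := ⟨diagonal fun l => (e l : F), by
    rw [Matrix.det_diagonal, ← Units.coe_prod, hprod, Units.val_one]⟩
  have hd : dia d = levi s * dia (Function.update (1 : Fin m → Fˣ) L P) := by
    rw [levi_eq_dia (s := s) (d := e) rfl, dia_mul, he]
    congr 1
    funext l
    rcases eq_or_ne l L with rfl | hl
    · simp [mul_assoc]
    · simp [hl]
  rw [hd, map_mul]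
  refine mul_mem ?_ (long_mem_genSub p hL hm P)
  exact PSL.diagonal_mem (H := (genSub p (Ubar m F)).comap ((pr m F).comp levi))
    (fun i j hij a ha => short_mem_genSub p hij a ha) s _ rfl

include p in
theorem normalizer_le_genSub (hm : 2 ≤ m) :
    Subgroup.normalizer ((Ubar m F : Subgroup _) : Set (Cfsg.PSp m F)) ≤ genSub p (Ubar m F) := by
  intro x hx
  obtain ⟨g, rfl⟩ := QuotientGroup.mk'_surjective _ x
  have hmaps : ∀ u ∈ U m F, pr m F (g * u * g⁻¹) ∈ Ubar m F := fun u hu => by
    rw [map_mul, map_mul, map_inv]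
    exact (Subgroup.mem_normalizer_iff.mp hx _).mp ⟨u, hu, rfl⟩
  obtain ⟨d, hdU, -⟩ := exists_dia_mul (blC_eq_zero_of_normalizes hmaps)
    (triangular_of_normalizes hmaps)
  show pr m F g ∈ _
  rw [show g = dia d * ((dia d)⁻¹ * g) from (mul_inv_cancel_left _ _).symm, map_mul]
  refine mul_mem (dia_mem_genSub p hm d) ?_
  refine Subgroup.mem_sup_right (Subgroup.mem_iSup_of_mem (Ubar m F)
    (Subgroup.mem_iSup_of_mem ⟨le_rfl, Subgroup.le_normalizer, inf_le_left⟩ ?_))
  have hmem : pr m F ((dia d)⁻¹ * g) ∈ Ubar m F := ⟨_, hdU, rfl⟩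
  obtain ⟨k, hk⟩ := IsPGroup.iff_orderOf.mp ((isPGroup_U p).map (pr m F)) ⟨_, hmem⟩
  exact ⟨Subgroup.le_normalizer hmem, Subgroup.subset_closure
    ⟨Subgroup.le_normalizer hmem, k, by
      rw [← hk]; exact Subgroup.orderOf_coe (⟨_, hmem⟩ : ((U m F).map (pr m F) : Subgroup _))⟩⟩

end Cfsg.Agent.Fusion91.PSp
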