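import Cfsg.Agent.Fusion91.PSp.Closed

set_option autoImplicit false

/-! The `p`-fusion system of `PSp_{2m}(q)` in the defining characteristic is simple. -/

namespace Cfsg.Agent.Fusion91.PSp

variable {m : ℕ} {F : Type*} [Field F] [Fintype F] (p : ℕ) [Fact p.Prime] [CharP F p]

include p in
theorem psp_simple (hm : 2 ≤ m) (hex : m = 2 → 3 ≤ Fintype.card F)
    (S : Sylow p (Cfsg.PSp m F)) :
    (Cfsg.groupFusionSystem (S : Subgroup (Cfsg.PSp m F))).IsSimple p := by
  haveI : NeZero m := ⟨by omega⟩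
  refine groupFusion_simple_of_one p (sylow m F p) ?_ ?_ ?_ S <;> rw [sylow_coe]
  · intro h
    set i : Fin m := ⟨0, by omega⟩
    have hm' : pr m F (Symplectic.tv (Symplectic.eI i : Symplectic.Vec m F) 1) ∈ Ubar m F :=
      ⟨_, tv_eI_mem_U i 1, rfl⟩
    rw [h, Subgroup.mem_bot, ← map_one (pr m F)] at hm'
    have h1 := pr_injOn (tv_eI_mem_U i 1) (one_mem _) hm'
    rw [tv_eI_eq] at h1
    have h2 := congrArg (fun g : Symplectic.Sp m F => blB g i i) h1
    simp at h2
  · exact noClosed_Ubar p hm hex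
  · exact normalizer_le_genSub p hm

end Cfsg.Agent.Fusion91.PSp
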